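import Groth.Agent.Lib.RatCyc12.Vanish
import Groth.Agent.Lib.HodgeIndex.IdealLe
import Groth.Agent.Lib.ArSurf29.Inter

/-!
# Fundamental cycles: computation sequences
-/

set_option autoImplicit false
set_option backward.isDefEq.respectTransparency false
set_option linter.all false

universe u

open CategoryTheory CategoryTheory.Limits AlgebraicGeometry TopologicalSpace Opposite

noncomputable section

namespace GrothLib.RatCyc12

open GrothLib.Cube (Pic clsMod)
open GrothLib.HodgeIndex (isect deg curveIdeal rep chi cCl)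
open GrothLib.Snapper (IsTop DimLT mixed phi)
open GrothLib.Euler (tF)

variable {X : Scheme.{u}}

theorem mul_le_mul_ideal {A A' B B' : X.IdealSheafData} (h : A ≤ A') (h' : B ≤ B') : A * B ≤ A' * B' := fun U => by
  show (A * B).ideal U ≤ (A' * B').ideal U
  rw [Scheme.IdealSheafData.ideal_mul, Scheme.IdealSheafData.ideal_mul, Pi.mul_apply, Pi.mul_apply]
  exact Ideal.mul_mono (h U) (h' U)

theorem pow_le_prod {Z : X.IdealSheafData} : ∀ l : List X.IdealSheafData, (∀ C ∈ l, Z ≤ C) → Z ^ l.length ≤ l.prod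
  | [], _ => by simp
  | C :: l, h => by
    rw [List.length_cons, pow_succ', List.prod_cons]
    exact mul_le_mul_ideal (h C (List.mem_cons_self ..)) (pow_le_prod l fun D hD => h D (List.mem_cons_of_mem _ hD))

variable (k : Type u) [Field k] [IsAlgClosed k] [X.Over (Spec (CommRingCat.of k))]
  [IsProper (X ↘ Spec (CommRingCat.of k))] [IsIntegral X] [Smooth (X ↘ Spec (CommRingCat.of k))]
  (hdim : topologicalKrullDim X = ((2 : ℕ) : WithBot ℕ∞))

include hdim in
theorem deg_eq_ccl {y : X} (hy : IsTop 1 y) (x : Pic X) : deg k y x = (isect k x (cCl (curveIdeal y)) : ℚ) := by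
  rw [cCl, dif_pos (HodgeIndex.inv_curveIdeal k hdim hy), HodgeIndex.deg_eq_isect k hdim hy]

include hdim in
theorem euler_curve_le_one {y : X} (hy : IsTop 1 y) : Curv2.euler k X (ClSub.quotMod (curveIdeal y)) ≤ 1 := by
  rw [euler_quot_sub k (curveIdeal y) (NumConn12.dim_pt hy),
    SurfRR28.finrank_H0_quotMod k (curveIdeal y) (Snapper.isIntegral_pt y)]
  omega

include hdim in
theorem chiD_curve_le_one {y : X} (hy : IsTop 1 y) : chiD k (cCl (curveIdeal y)) ≤ 1 := by
  rw [cCl, dif_pos (HodgeIndex.inv_curveIdeal k hdim hy), ← euler_quot_eq k (HodgeIndex.inv_curveIdeal k hdim hy)]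
  exact euler_curve_le_one k hdim hy

/-- Every proper part can be enlarged inside `Z` by a curve meeting it. -/
def HasChain (Z : X.IdealSheafData) : Prop :=
  ∀ A K : X.IdealSheafData, ∀ (hA : PicF.IsInvertible (ClSub.idealMod A)),
    _root_.BlowUp.IsEffCartierIdeal A → _root_.BlowUp.IsEffCartierIdeal K → A ≠ ⊤ → K ≠ ⊤ → Z = A * K →
      ∃ y, IsTop 1 y ∧ y ∈ (K.support : Set X) ∧ 1 ≤ isect k (clsMod hA)⁻¹ (cCl (curveIdeal y))

variable {Z : X.IdealSheafData} (hchain : HasChain k Z)

include k hdim in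
theorem step_data {A : X.IdealSheafData} (hA : _root_.BlowUp.IsEffCartierIdeal A) {y : X} (hy : IsTop 1 y) :
    ∀ h : PicF.IsInvertible (ClSub.idealMod (A * curveIdeal y)),
      (clsMod h)⁻¹ = (clsMod (IdealModSec.isInvertible_of_isEffCartier hA))⁻¹ * cCl (curveIdeal y) := fun h => by
  rw [HodgeIndex.cls_idealMod_mul h (IdealModSec.isInvertible_of_isEffCartier hA) (HodgeIndex.inv_curveIdeal k hdim hy),
    mul_inv, cCl, dif_pos (HodgeIndex.inv_curveIdeal k hdim hy)]

include hdim hchain in
/-- The arithmetic genus increases along computation sequences. -/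
theorem euler_le_of_part (K : X.IdealSheafData) :
    ∀ A : X.IdealSheafData, _root_.BlowUp.IsEffCartierIdeal A → A ≠ ⊤ → _root_.BlowUp.IsEffCartierIdeal K → Z = A * K →
      Curv2.euler k X (ClSub.quotMod Z) ≤ Curv2.euler k X (ClSub.quotMod A) := by
  haveI := Euler.isNoetherian_of_proper (X := X) k
  haveI := CurveMult.wellFoundedGT_idealSheafData (X := X)
  induction K using WellFoundedGT.induction with
  | ind K ih =>
    intro A hA hA0 hK hZ
    by_cases hK0 : K = ⊤
    · rw [hZ, hK0, ← Scheme.IdealSheafData.one_eq_top, mul_one]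
    · have hAi := IdealModSec.isInvertible_of_isEffCartier hA
      obtain ⟨y, hy, hyK, hay⟩ := hchain A K hAi hA hK hA0 hK0 hZ
      have hC := HodgeIndex.eff_curveIdeal k hdim hy
      obtain ⟨K', hK', he⟩ := NumConn12.exists_quotient hK hC (Scheme.IdealSheafData.le_support_iff_le_vanishingIdeal.1
        (closure_minimal (Set.singleton_subset_iff.2 hyK) K.support.isClosed))
      have hlt : K < K' := lt_of_le_of_ne (he.le.trans (by rw [mul_comm]; exact ArSurf29.mul_le_left' _ _)) fun e => by
        have hC0 := NumConn12.eq_top_of_mul_eq hC hK' (he.symm.trans e)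
        have h : y ∈ ((curveIdeal y).support : Set X) := subset_closure rfl
        rw [hC0, Scheme.IdealSheafData.support_top] at h
        exact h
      have hAC := BlowUp.isEffCartierIdeal_mul hA hC
      have hACi := IdealModSec.isInvertible_of_isEffCartier hAC
      have hrec := ih K' hlt _ hAC (fun e => hA0 (top_le_iff.1 (e ▸ ArSurf29.mul_le_left' A (curveIdeal y)))) hK'
        (by rw [hZ, he, mul_assoc])
      refine hrec.trans ?_
      rw [euler_quot_eq k hACi, euler_quot_eq k hAi, step_data k hdim hA hy hACi, chiD_mul k hdim]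
      have := chiD_curve_le_one k hdim hy
      linarith

omit [IsAlgClosed k] [Smooth (X ↘ Spec (CommRingCat.of k))] [IsIntegral X] in
/-- Twisting the sequence of a sum of divisors. -/
theorem nonempty_twist {A C : X.IdealSheafData} (hA : PicF.IsInvertible (ClSub.idealMod A)) {L : X.Modules}
    (hL : PicF.IsInvertible L) :
    Nonempty ((tF L).obj (((DCoh.tensorBi (X := X)).obj (ClSub.idealMod A)).obj (ClSub.quotMod C)) ≅
      (tF (CohB1.tensorMod L (ClSub.idealMod A))).obj (ClSub.quotMod C)) := by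
  let j := C.subschemeι
  have hlf := Euler.isFinLocFree_of_isInvertible hL
  obtain ⟨q⟩ := CMReg.nonempty_tensorMod_push j (ClSub.idealMod A) (Euler.isFinLocFree_of_isInvertible hA)
  have hLA := Ample.isInvertible_tensorMod hL hA
  obtain ⟨q'⟩ := CMReg.nonempty_tensorMod_push j (CohB1.tensorMod L (ClSub.idealMod A)) (Euler.isFinLocFree_of_isInvertible hLA)
  let LC := (Scheme.Modules.pullback j).obj L
  let AC := (Scheme.Modules.pullback j).obj (ClSub.idealMod A)
  haveI := ProjFormula.isIso_projHom j hlf AC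
  have hLC := Ample.isInvertible_pullback j hL
  have hAC := Ample.isInvertible_pullback j hA
  obtain ⟨ε⟩ := (Cube.clsMod_eq_iff (Ample.isInvertible_tensorMod hLC hAC) (Ample.isInvertible_pullback j hLA)).1 (by
    rw [Cube.clsMod_pullback j hLA, Cube.clsMod_tensorMod hL hA, map_mul, Cube.clsMod_tensorMod hLC hAC,
      Cube.clsMod_pullback j hL, Cube.clsMod_pullback j hA])
  exact ⟨(tF L).mapIso (GrTilde.tensorModComm _ _ ≪≫ q) ≪≫
      GrTilde.tensorModComm ((Scheme.Modules.pushforward j).obj AC) L ≪≫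
      asIso (ProjFormula.projHom j L AC) ≪≫ (Scheme.Modules.pushforward j).mapIso ε ≪≫ q'.symm⟩

include hdim hchain in
/-- Vanishing for twists non-negative on every curve, when the genus is zero. -/
theorem subsingleton_H1_of_part (hZ : 1 ≤ Curv2.euler k X (ClSub.quotMod Z)) {L : X.Modules}
    (hL : PicF.IsInvertible L) (hdeg : ∀ y, IsTop 1 y → y ∈ (Z.support : Set X) → 0 ≤ deg k y (clsMod hL))
    (K : X.IdealSheafData) :
    ∀ A : X.IdealSheafData, _root_.BlowUp.IsEffCartierIdeal A → A ≠ ⊤ → _root_.BlowUp.IsEffCartierIdeal K → Z = A * K →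
      Curv2.euler k X (ClSub.quotMod A) = 1 → Subsingleton (Coh.HH X ((tF L).obj (ClSub.quotMod A)) 1) →
      Subsingleton (Coh.HH X ((tF L).obj (ClSub.quotMod Z)) 1) := by
  haveI := Euler.isNoetherian_of_proper (X := X) k
  haveI := CurveMult.wellFoundedGT_idealSheafData (X := X)
  induction K using WellFoundedGT.induction with
  | ind K ih =>
    intro A hA hA0 hK hZe hAχ hA1
    by_cases hK0 : K = ⊤
    · rw [hZe, hK0, ← Scheme.IdealSheafData.one_eq_top, mul_one]
      exact hA1
    · have hAi := IdealModSec.isInvertible_of_isEffCartier hA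
      obtain ⟨y, hy, hyK, hay⟩ := hchain A K hAi hA hK hA0 hK0 hZe
      have hC := HodgeIndex.eff_curveIdeal k hdim hy
      have hCi := HodgeIndex.inv_curveIdeal k hdim hy
      obtain ⟨K', hK', he⟩ := NumConn12.exists_quotient hK hC (Scheme.IdealSheafData.le_support_iff_le_vanishingIdeal.1
        (closure_minimal (Set.singleton_subset_iff.2 hyK) K.support.isClosed))
      have hlt : K < K' := lt_of_le_of_ne (he.le.trans (by rw [mul_comm]; exact ArSurf29.mul_le_left' _ _)) fun e => by
        have hC0 := NumConn12.eq_top_of_mul_eq hC hK' (he.symm.trans e)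
        have h : y ∈ ((curveIdeal y).support : Set X) := subset_closure rfl
        rw [hC0, Scheme.IdealSheafData.support_top] at h
        exact h
      have hAC := BlowUp.isEffCartierIdeal_mul hA hC
      have hACi := IdealModSec.isInvertible_of_isEffCartier hAC
      have hA'0 : A * curveIdeal y ≠ ⊤ := fun e => hA0 (top_le_iff.1 (e ▸ ArSurf29.mul_le_left' A (curveIdeal y)))
      have hZe' : Z = A * curveIdeal y * K' := by rw [hZe, he, mul_assoc]
      have hyZ : y ∈ (Z.support : Set X) :=
        Scheme.IdealSheafData.support_antitone (hZe.le.trans (by rw [mul_comm]; exact ArSurf29.mul_le_left' _ _)) hyK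
      -- equalities
      have hmono := hZ.trans (euler_le_of_part k hdim hchain K' _ hAC hA'0 hK' hZe')
      have hC1 := chiD_curve_le_one k hdim hy
      have hsum : chiD k ((clsMod hAi)⁻¹ * cCl (curveIdeal y)) = 1 + chiD k (cCl (curveIdeal y)) -
          isect k (clsMod hAi)⁻¹ (cCl (curveIdeal y)) := by
        rw [chiD_mul k hdim, ← euler_quot_eq k hAi, hAχ]
      rw [euler_quot_eq k hACi, step_data k hdim hA hy hACi, hsum] at hmono
      have hint : isect k (clsMod hAi)⁻¹ (cCl (curveIdeal y)) = 1 := by omega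
      have hχC : Curv2.euler k X (ClSub.quotMod (curveIdeal y)) = 1 := by
        have h1 : chiD k (cCl (curveIdeal y)) = 1 := by omega
        rwa [cCl, dif_pos hCi, ← euler_quot_eq k hCi] at h1
      have hA'χ : Curv2.euler k X (ClSub.quotMod (A * curveIdeal y)) = 1 := by
        rw [euler_quot_eq k hACi, step_data k hdim hA hy hACi, hsum]
        omega
      refine ih K' hlt _ hAC hA'0 hK' hZe' hA'χ ?_
      -- the step
      obtain ⟨S, hS, ⟨a₁⟩, ⟨a₂⟩, ⟨a₃⟩⟩ := ArSurf29.exists_shortExact_mul A (curveIdeal y) hAi hCi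
      have hT := OX.tensor_map_shortExact (OX.flat_of_isFinLocFree (Euler.isFinLocFree_of_isInvertible hL)) hS
      obtain ⟨c⟩ := nonempty_twist (C := curveIdeal y) hAi hL
      have hLA := Ample.isInvertible_tensorMod hL hAi
      have hd : -1 ≤ deg k y (clsMod hLA) := by
        rw [Cube.clsMod_tensorMod hL hAi, Goodman.deg_mul k hy]
        have e1 : deg k y (clsMod hAi) = -(1 : ℚ) := by
          rw [← inv_inv (clsMod hAi), Goodman.deg_inv k hy, deg_eq_ccl k hdim hy, hint]
          norm_num
        have := hdeg y hy hyZ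
        linarith
      haveI hk1 := subsingleton_H1_twist k hdim hy hχC hLA hd
      haveI : Subsingleton (Coh.HH X ((tF L).obj S.X₁) 1) :=
        (Euler.hhEquiv (A := k) ((tF L).mapIso a₁ ≪≫ c) 1).injective.subsingleton
      haveI := hA1
      haveI : Subsingleton (Coh.HH X ((tF L).obj S.X₃) 1) :=
        (Euler.hhEquiv (A := k) ((tF L).mapIso a₃) 1).injective.subsingleton
      have h2 : Subsingleton (Coh.HH X ((tF L).obj S.X₂) 1) := subsingleton_of_forall_eq 0 fun x => by
        haveI : Subsingleton (Coh.HH X ((S.map (tF L)).X₁) 1) := ‹Subsingleton (Coh.HH X ((tF L).obj S.X₁) 1)›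
        haveI : Subsingleton (Coh.HH X ((S.map (tF L)).X₃) 1) := ‹Subsingleton (Coh.HH X ((tF L).obj S.X₃) 1)›
        obtain ⟨w, hw⟩ := (Cohom.exact₂ (A := k) hT 1 x).1
          (@Subsingleton.elim _ ‹Subsingleton (Coh.HH X ((tF L).obj S.X₃) 1)› _ _)
        have hw0 : w = 0 := @Subsingleton.elim _ ‹Subsingleton (Coh.HH X ((tF L).obj S.X₁) 1)› w 0
        rw [hw0, map_zero] at hw
        exact hw.symm
      exact (Euler.hhEquiv (A := k) ((tF L).mapIso a₂) 1).symm.injective.subsingleton

set_option maxHeartbeats 800000 in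
include hdim hchain in
/-- The genus of a divisor with computation sequences is at least zero. -/
theorem euler_le_one (hZc : _root_.BlowUp.IsEffCartierIdeal Z) (hZ0 : Z ≠ ⊤) : Curv2.euler k X (ClSub.quotMod Z) ≤ 1 := by
  haveI := Euler.isNoetherian_of_proper (X := X) k
  obtain ⟨l, hl, he⟩ := exists_list k hdim Z hZc
  cases l with
  | nil => exact absurd (he.trans (List.prod_nil.trans Scheme.IdealSheafData.one_eq_top)) hZ0
  | cons y l =>
    obtain ⟨hy, hyZ⟩ := hl y (List.mem_cons_self ..)
    have hl' : ∀ z ∈ l, IsTop 1 z := fun z hz => (hl z (List.mem_cons_of_mem _ hz)).1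
    refine (euler_le_of_part k hdim hchain _ _ (HodgeIndex.eff_curveIdeal k hdim hy) (fun e => ?_)
      (isEffCartier_list k hdim l hl') (he.trans List.prod_cons)).trans (euler_curve_le_one k hdim hy)
    have h : y ∈ ((curveIdeal y).support : Set X) := subset_closure rfl
    rw [e, Scheme.IdealSheafData.support_top] at h
    exact h

set_option maxHeartbeats 800000 in
include hdim hchain in
/-- Vanishing on a cycle of genus zero with computation sequences. -/
theorem subsingleton_H1_twist_cycle (hZc : _root_.BlowUp.IsEffCartierIdeal Z) (hZ0 : Z ≠ ⊤)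
    (hZ : 1 ≤ Curv2.euler k X (ClSub.quotMod Z)) {L : X.Modules} (hL : PicF.IsInvertible L)
    (hdeg : ∀ y, IsTop 1 y → y ∈ (Z.support : Set X) → 0 ≤ deg k y (clsMod hL)) :
    Subsingleton (Coh.HH X ((tF L).obj (ClSub.quotMod Z)) 1) := by
  haveI := Euler.isNoetherian_of_proper (X := X) k
  obtain ⟨l, hl, he⟩ := exists_list k hdim Z hZc
  cases l with
  | nil => exact absurd (he.trans (List.prod_nil.trans Scheme.IdealSheafData.one_eq_top)) hZ0
  | cons y l =>
    obtain ⟨hy, hyZ⟩ := hl y (List.mem_cons_self ..)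
    have hl' : ∀ z ∈ l, IsTop 1 z := fun z hz => (hl z (List.mem_cons_of_mem _ hz)).1
    have hC0 : curveIdeal y ≠ ⊤ := fun e => by
      have h : y ∈ ((curveIdeal y).support : Set X) := subset_closure rfl
      rw [e, Scheme.IdealSheafData.support_top] at h
      exact h
    have h1 : Curv2.euler k X (ClSub.quotMod (curveIdeal y)) = 1 :=
      le_antisymm (euler_curve_le_one k hdim hy) (hZ.trans (euler_le_of_part k hdim hchain _ _
        (HodgeIndex.eff_curveIdeal k hdim hy) hC0 (isEffCartier_list k hdim l hl') (he.trans List.prod_cons)))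
    exact subsingleton_H1_of_part k hdim hchain hZ hL hdeg _ _ (HodgeIndex.eff_curveIdeal k hdim hy) hC0
      (isEffCartier_list k hdim l hl') (he.trans List.prod_cons) h1
      (subsingleton_H1_twist k hdim hy h1 hL (by linarith [hdeg y hy hyZ]))

omit [IsAlgClosed k] [Smooth (X ↘ Spec (CommRingCat.of k))] [IsIntegral X] in
theorem euler_tF_additive {L : X.Modules} (hlf : FlatMod.IsFinLocFree L) {A B C : X.Modules} (f : A ⟶ B) (g : B ⟶ C)
    (w : f ≫ g = 0) (hS : (ShortComplex.mk f g w).ShortExact) (hA : Coh.IsCoh A) (hB : Coh.IsCoh B) (hC : Coh.IsCoh C) :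
    Curv2.euler k X ((tF L).obj B) = Curv2.euler k X ((tF L).obj A) + Curv2.euler k X ((tF L).obj C) := by
  haveI := Euler.isNoetherian_of_proper (X := X) k
  have hT := OX.tensor_map_shortExact (OX.flat_of_isFinLocFree hlf) hS
  have h := Euler.euler_additive k hT
  simp only [ShortComplex.map_X₁, ShortComplex.map_X₂, ShortComplex.map_X₃] at h
  exact h (Euler.isCoh_tF hA hlf) (Euler.isCoh_tF hB hlf) (Euler.isCoh_tF hC hlf)

omit [IsAlgClosed k] [Smooth (X ↘ Spec (CommRingCat.of k))] in
include hdim in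
/-- The Euler characteristic of a twisted divisor. -/
theorem euler_twist_eq {Z : X.IdealSheafData} (hZ : PicF.IsInvertible (ClSub.idealMod Z)) {L : X.Modules}
    (hL : PicF.IsInvertible L) :
    Curv2.euler k X ((tF L).obj (ClSub.quotMod Z)) =
      Curv2.euler k X (ClSub.quotMod Z) + isect k (clsMod hL) (clsMod hZ)⁻¹ := by
  haveI := Euler.isNoetherian_of_proper (X := X) k
  have hlf := Euler.isFinLocFree_of_isInvertible hL
  have h := euler_tF_additive k hlf (ClSub.idealModι Z) (ClSub.toSubscheme Z) (kernel.condition _)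
    (ArSurf29.shortExact_ideal Z) (Euler.isCoh_of_isInvertible hZ) (Kleiman.isCoh_O k) (QCoh.pushUnit_isCoh Z.subschemeι)
  have e1 : Curv2.euler k X ((tF L).obj (ClSub.idealMod Z)) = chi k (clsMod hZ * clsMod hL) := by
    rw [← Cube.clsMod_tensorMod hZ hL]
    exact HodgeIndex.euler_eq_chi k (Ample.isInvertible_tensorMod hZ hL)
  let eL : (tF L).obj (Coh.structureModule X) ≅ L := OX.tensorUnitLeftIso L
  have e2 : Curv2.euler k X ((tF L).obj (Coh.structureModule X)) = chi k (clsMod hL) :=
    (Euler.euler_of_iso k eL).trans (HodgeIndex.euler_eq_chi k hL)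
  rw [e1, e2] at h
  rw [euler_quot_eq k hZ, chiD, inv_inv, HodgeIndex.isect_inv_right k hdim.le, isect, mul_comm (clsMod hL)]
  linarith

omit [IsAlgClosed k] [Smooth (X ↘ Spec (CommRingCat.of k))] in
include k hdim in
theorem subsingleton_H2_twist {Z : X.IdealSheafData} (hZ : PicF.IsInvertible (ClSub.idealMod Z)) {L : X.Modules}
    (hL : PicF.IsInvertible L) : Subsingleton (Coh.HH X ((tF L).obj (ClSub.quotMod Z)) 2) := by
  haveI := Euler.isNoetherian_of_proper (X := X) k
  letI : Z.subscheme.Over (Spec (CommRingCat.of k)) := ⟨Z.subschemeι ≫ X ↘ Spec (CommRingCat.of k)⟩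
  haveI : IsProper (Z.subscheme ↘ Spec (CommRingCat.of k)) :=
    inferInstanceAs (IsProper (Z.subschemeι ≫ X ↘ Spec (CommRingCat.of k)))
  let j := Z.subschemeι
  obtain ⟨q⟩ := CMReg.nonempty_tensorMod_push j L (Euler.isFinLocFree_of_isInvertible hL)
  let q' : (tF L).obj (ClSub.quotMod Z) ≅ (Scheme.Modules.pushforward j).obj ((Scheme.Modules.pullback j).obj L) := q
  haveI := (Euler.isCoh_of_isInvertible (Ample.isInvertible_pullback j hL)).1
  obtain ⟨e⟩ := Cohom.nonempty_HH_equiv_pushforward j ((Scheme.Modules.pullback j).obj L) 2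
  haveI : Subsingleton (Coh.HH Z.subscheme ((Scheme.Modules.pullback j).obj L) 2) :=
    Euler.subsingleton_HH_of_two_le k (dim_effCartier k hdim hZ) ((Scheme.Modules.pullback j).obj L) 2 le_rfl
  haveI : Subsingleton (Coh.HH X ((Scheme.Modules.pushforward j).obj ((Scheme.Modules.pullback j).obj L)) 2) :=
    e.symm.injective.subsingleton
  exact (Euler.hhEquiv (A := k) q' 2).injective.subsingleton

omit [IsAlgClosed k] [Smooth (X ↘ Spec (CommRingCat.of k))] in
include hdim in
theorem finrank_H0_twist {Z : X.IdealSheafData} (hZ : PicF.IsInvertible (ClSub.idealMod Z)) {L : X.Modules}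
    (hL : PicF.IsInvertible L) (h1 : Subsingleton (Coh.HH X ((tF L).obj (ClSub.quotMod Z)) 1)) :
    (Module.finrank k (Coh.HH X ((tF L).obj (ClSub.quotMod Z)) 0) : ℤ) =
      Curv2.euler k X ((tF L).obj (ClSub.quotMod Z)) := by
  haveI := Euler.isNoetherian_of_proper (X := X) k
  letI : Z.subscheme.Over (Spec (CommRingCat.of k)) := ⟨Z.subschemeι ≫ X ↘ Spec (CommRingCat.of k)⟩
  haveI : IsProper (Z.subscheme ↘ Spec (CommRingCat.of k)) :=
    inferInstanceAs (IsProper (Z.subschemeι ≫ X ↘ Spec (CommRingCat.of k)))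
  let j := Z.subschemeι
  obtain ⟨q⟩ := CMReg.nonempty_tensorMod_push j L (Euler.isFinLocFree_of_isInvertible hL)
  let q' : (tF L).obj (ClSub.quotMod Z) ≅ (Scheme.Modules.pushforward j).obj ((Scheme.Modules.pullback j).obj L) := q
  haveI := (Euler.isCoh_of_isInvertible (Ample.isInvertible_pullback j hL)).1
  obtain ⟨e0⟩ := Snapper.nonempty_HH_linearEquiv_pushforward (A := k) j rfl ((Scheme.Modules.pullback j).obj L) 0
  obtain ⟨e1⟩ := Snapper.nonempty_HH_linearEquiv_pushforward (A := k) j rfl ((Scheme.Modules.pullback j).obj L) 1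
  haveI := h1
  haveI : Subsingleton (Coh.HH Z.subscheme ((Scheme.Modules.pullback j).obj L) 1) :=
    (e1.trans (Euler.hhEquiv (A := k) q' 1).symm).injective.subsingleton
  rw [Euler.euler_of_iso k q', Snapper.euler_pushforward j rfl, Euler.euler_eq_sub k (dim_effCartier k hdim hZ),
    (Euler.hhEquiv (A := k) q' 0).finrank_eq, ← e0.finrank_eq,
    Module.finrank_zero_of_subsingleton (M := Coh.HH Z.subscheme ((Scheme.Modules.pullback j).obj L) 1)]
  simp

include hdim hchain in
/-- All multiples of a cycle of genus zero, negative on its curves. -/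
theorem subsingleton_H1_pow (hZc : _root_.BlowUp.IsEffCartierIdeal Z) (hZ0 : Z ≠ ⊤)
    (hZ : 1 ≤ Curv2.euler k X (ClSub.quotMod Z))
    (hneg : ∀ y, IsTop 1 y → y ∈ (Z.support : Set X) →
      0 ≤ deg k y (clsMod (IdealModSec.isInvertible_of_isEffCartier hZc))) :
    ∀ n : ℕ, Subsingleton (Coh.HH X (ClSub.quotMod (Z ^ n)) 1) := by
  haveI := Euler.isNoetherian_of_proper (X := X) k
  intro n
  induction n with
  | zero =>
    exact subsingleton_H1 k hdim _ (by rw [pow_zero, Scheme.IdealSheafData.one_eq_top]; exact BlowUp.isEffCartierIdeal_top)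
      fun A J hA hJ hA0 he => absurd (top_le_iff.1 ((Scheme.IdealSheafData.one_eq_top.symm.trans
        ((pow_zero Z).symm.trans he)).le.trans (ArSurf29.mul_le_left' A J))) hA0
  | succ n ih =>
    have hZi := IdealModSec.isInvertible_of_isEffCartier hZc
    obtain ⟨hP, eP⟩ := ArSurf29.cls_idealMod_pow hZc n
    obtain ⟨S, hS, ⟨a₁⟩, ⟨a₂⟩, ⟨a₃⟩⟩ := ArSurf29.exists_shortExact_mul (Z ^ n) Z hP hZi
    have hk := subsingleton_H1_twist_cycle k hdim hchain hZc hZ0 hZ hP fun y hy hyZ => by
      have h := hneg y hy hyZ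
      rw [deg_eq_ccl k hdim hy] at h ⊢
      rw [eP, HodgeIndex.isect_pow_left k hdim.le]
      push_cast
      exact mul_nonneg (Nat.cast_nonneg _) h
    haveI := hk
    let c : S.X₁ ≅ (tF (ClSub.idealMod (Z ^ n))).obj (ClSub.quotMod Z) := a₁ ≪≫ GrTilde.tensorModComm _ _
    haveI : Subsingleton (Coh.HH X S.X₁ 1) := (Euler.hhEquiv (A := k) c 1).injective.subsingleton
    haveI := ih
    haveI : Subsingleton (Coh.HH X S.X₃ 1) := (Euler.hhEquiv (A := k) a₃ 1).injective.subsingleton
    haveI : Subsingleton (Coh.HH X S.X₂ 1) := subsingleton_of_forall_eq 0 fun x => by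
      obtain ⟨w, rfl⟩ := (Cohom.exact₂ (A := k) hS 1 x).1 (Subsingleton.elim _ _)
      rw [Subsingleton.elim w 0, map_zero]
    rw [pow_succ]
    exact (Euler.hhEquiv (A := k) a₂ 1).symm.injective.subsingleton

omit [IsAlgClosed k] [Smooth (X ↘ Spec (CommRingCat.of k))] in
include k hdim in
/-- Vanishing passes to smaller divisors. -/
theorem subsingleton_H1_of_le {Z W : X.IdealSheafData} (hZ : _root_.BlowUp.IsEffCartierIdeal Z)
    (hW : _root_.BlowUp.IsEffCartierIdeal W) (h : W ≤ Z) (h1 : Subsingleton (Coh.HH X (ClSub.quotMod W) 1)) :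
    Subsingleton (Coh.HH X (ClSub.quotMod Z) 1) := by
  haveI := Euler.isNoetherian_of_proper (X := X) k
  obtain ⟨K, hK, he⟩ := NumConn12.exists_quotient hW hZ h
  subst he
  have hZi := IdealModSec.isInvertible_of_isEffCartier hZ
  have hKi := IdealModSec.isInvertible_of_isEffCartier hK
  obtain ⟨S, hS, ⟨a₁⟩, ⟨a₂⟩, ⟨a₃⟩⟩ := ArSurf29.exists_shortExact_mul Z K hZi hKi
  haveI := h1
  haveI : Subsingleton (Coh.HH X S.X₂ 1) := (Euler.hhEquiv (A := k) a₂ 1).injective.subsingleton
  haveI := subsingleton_H2_twist k hdim hKi hZi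
  haveI : Subsingleton (Coh.HH X S.X₁ 2) :=
    (Euler.hhEquiv (A := k) (show S.X₁ ≅ (tF (ClSub.idealMod Z)).obj (ClSub.quotMod K) from
      a₁ ≪≫ GrTilde.tensorModComm _ _) 2).injective.subsingleton
  haveI : Subsingleton (Coh.HH X S.X₁ (1 + 1)) := ‹Subsingleton (Coh.HH X S.X₁ 2)›
  haveI : Subsingleton (Coh.HH X S.X₃ 1) := subsingleton_of_forall_eq 0 fun x => by
    obtain ⟨w, rfl⟩ := (Cohom.exact₃ (A := k) hS 1 x).1 (Subsingleton.elim _ _)
    rw [Subsingleton.elim w 0, map_zero]
  exact (Euler.hhEquiv (A := k) a₃ 1).symm.injective.subsingleton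

end GrothLib.RatCyc12
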