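import Groth.Agent.Lib.NumConn12.Restrict
import Groth.Agent.Lib.SurfRR28.Curve
import Groth.Agent.Lib.HodgeIndex.IdealMul

/-!
# Arithmetic genus of effective divisors on a surface
-/

set_option autoImplicit false
set_option backward.isDefEq.respectTransparency false
set_option linter.all false

universe u

open CategoryTheory CategoryTheory.Limits AlgebraicGeometry TopologicalSpace Opposite

noncomputable section

namespace GrothLib.RatCyc12

open GrothLib.Cube (Pic clsMod)
open GrothLib.HodgeIndex (isect deg curveIdeal rep chi cCl)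
open GrothLib.Snapper (IsTop DimLT mixed phi)
open GrothLib.Euler (tF)

variable {X : Scheme.{u}} (k : Type u) [Field k] [X.Over (Spec (CommRingCat.of k))]
  [IsProper (X ↘ Spec (CommRingCat.of k))]

/-- `χ(O_D)` as a function of the class of `D`. -/
def chiD (z : Pic X) : ℤ := chi k (1 : Pic X) - chi k z⁻¹

theorem euler_quot_eq {Z : X.IdealSheafData} (hZ : PicF.IsInvertible (ClSub.idealMod Z)) :
    Curv2.euler k X (ClSub.quotMod Z) = chiD k (clsMod hZ)⁻¹ := by
  haveI := Euler.isNoetherian_of_proper (X := X) k
  have h := Euler.euler_additive k (ArSurf29.shortExact_ideal Z) (Euler.isCoh_of_isInvertible hZ)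
    (Kleiman.isCoh_O k) (QCoh.pushUnit_isCoh Z.subschemeι)
  dsimp only at h
  rw [chiD, inv_inv, HodgeIndex.chi_one, ← HodgeIndex.euler_eq_chi k hZ]
  linarith

variable [IsIntegral X] (hdim : topologicalKrullDim X = ((2 : ℕ) : WithBot ℕ∞))

include hdim in
theorem chiD_mul (a b : Pic X) : chiD k (a * b) = chiD k a + chiD k b - isect k a b := by
  have h1 : isect k a⁻¹ b⁻¹ = isect k a b := by
    rw [HodgeIndex.isect_inv_left k hdim.le, HodgeIndex.isect_inv_right k hdim.le, neg_neg]
  rw [← h1]
  simp only [chiD, isect, mul_inv]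
  ring

/-- The canonical degree of a class, by adjunction. -/
def kdeg (z : Pic X) : ℤ := -2 * chiD k z - isect k z z

include hdim in
theorem kdeg_mul (a b : Pic X) : kdeg k (a * b) = kdeg k a + kdeg k b := by
  simp only [kdeg, chiD_mul k hdim, HodgeIndex.isect_mul_left k hdim.le, HodgeIndex.isect_mul_right k hdim.le,
    HodgeIndex.isect_comm k b a]
  ring

theorem kdeg_one : kdeg k (1 : Pic X) = 0 := by
  simp [kdeg, chiD, isect]

include hdim in
theorem kdeg_prod : ∀ l : List (Pic X), kdeg k l.prod = (l.map (kdeg k)).sum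
  | [] => by simp [kdeg_one]
  | a :: l => by rw [List.prod_cons, kdeg_mul k hdim, kdeg_prod l, List.map_cons, List.sum_cons]

include hdim in
theorem isect_prod (x : Pic X) : ∀ l : List (Pic X), isect k x l.prod = (l.map (isect k x)).sum
  | [] => by simp [isect]
  | a :: l => by rw [List.prod_cons, HodgeIndex.isect_mul_right k hdim.le, isect_prod x l, List.map_cons, List.sum_cons]

variable [Smooth (X ↘ Spec (CommRingCat.of k))]

include k hdim in
/-- An effective divisor is a sum of curves. -/
theorem exists_list (Z : X.IdealSheafData) (hZ : _root_.BlowUp.IsEffCartierIdeal Z) :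
    ∃ l : List X, (∀ y ∈ l, IsTop 1 y ∧ y ∈ (Z.support : Set X)) ∧ Z = (l.map curveIdeal).prod := by
  haveI := Euler.isNoetherian_of_proper (X := X) k
  haveI := CurveMult.wellFoundedGT_idealSheafData (X := X)
  revert hZ
  induction Z using WellFoundedGT.induction with
  | ind Z ih =>
    intro hZ
    by_cases h0 : Z = ⊤
    · exact ⟨[], fun y hy => absurd hy (by simp), by rw [h0, List.map_nil, List.prod_nil]; exact Scheme.IdealSheafData.one_eq_top.symm⟩
    obtain ⟨x, hx⟩ : ∃ x, x ∈ (Z.support : Set X) := by
      by_contra hem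
      push Not at hem
      rw [← Scheme.IdealSheafData.support_eq_bot_iff] at h0
      exact h0 (SetLike.ext fun x => ⟨fun hx => absurd hx (hem x), fun hx => False.elim (show x ∈ (∅ : Set X) from hx)⟩)
    have hZi := IdealModSec.isInvertible_of_isEffCartier hZ
    have hη := HodgeIndex.stalk_bijective_idealModι Z (HodgeIndex.genericPoint_notMem_support k hdim hZi)
    obtain ⟨y, hy, -, hys⟩ := Goodman.exists_curve_not_surjective k hdim hZi (ClSub.idealModι Z) hη.2
      (HodgeIndex.not_surjective_idealModι Z hx)
    have hyZ : y ∈ (Z.support : Set X) := by_contra fun h => hys (HodgeIndex.stalk_bijective_idealModι Z h).2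
    have hC := HodgeIndex.eff_curveIdeal k hdim hy
    obtain ⟨K, hK, he⟩ := NumConn12.exists_quotient hZ hC (Scheme.IdealSheafData.le_support_iff_le_vanishingIdeal.1
      (closure_minimal (Set.singleton_subset_iff.2 hyZ) Z.support.isClosed))
    have hle : Z ≤ K := he.le.trans (by rw [mul_comm]; exact ArSurf29.mul_le_left' _ _)
    have hlt : Z < K := lt_of_le_of_ne hle fun e => by
      have hC0 := NumConn12.eq_top_of_mul_eq hC hK (he.symm.trans e)
      have h : y ∈ ((curveIdeal y).support : Set X) := subset_closure rfl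
      rw [hC0, Scheme.IdealSheafData.support_top] at h
      exact h
    obtain ⟨l, hl, hle'⟩ := ih K hlt hK
    refine ⟨y :: l, fun z hz => ?_, by rw [List.map_cons, List.prod_cons, ← hle']; exact he⟩
    rcases List.mem_cons.1 hz with rfl | hz
    · exact ⟨hy, hyZ⟩
    · exact ⟨(hl z hz).1, Scheme.IdealSheafData.support_antitone hle (hl z hz).2⟩

include k hdim in
theorem isEffCartier_list : ∀ l : List X, (∀ y ∈ l, IsTop 1 y) →
    _root_.BlowUp.IsEffCartierIdeal (l.map curveIdeal).prod
  | [], _ => by rw [List.map_nil, List.prod_nil, Scheme.IdealSheafData.one_eq_top]; exact BlowUp.isEffCartierIdeal_top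
  | y :: l, h => by
    rw [List.map_cons, List.prod_cons]
    exact BlowUp.isEffCartierIdeal_mul (HodgeIndex.eff_curveIdeal k hdim (h y (List.mem_cons_self ..)))
      (isEffCartier_list l fun z hz => h z (List.mem_cons_of_mem _ hz))

set_option maxHeartbeats 800000 in
include k hdim in
theorem cls_list (l : List X) (hl : ∀ y ∈ l, IsTop 1 y) :
    ∀ hI : PicF.IsInvertible (ClSub.idealMod (l.map curveIdeal).prod),
      (clsMod hI)⁻¹ = (l.map fun y => cCl (curveIdeal y)).prod := by
  induction l with
  | nil =>
    intro hI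
    have key : ∀ (I : X.IdealSheafData) (h : PicF.IsInvertible (ClSub.idealMod I)), I = ⊤ → clsMod h = 1 := by
      rintro I h rfl
      exact HodgeIndex.cls_idealMod_top h
    rw [key _ hI (List.prod_nil.trans Scheme.IdealSheafData.one_eq_top), inv_one]
    exact List.prod_nil.symm
  | cons y l ih =>
    intro hI
    have hy := hl y (List.mem_cons_self ..)
    have hl' : ∀ z ∈ l, IsTop 1 z := fun z hz => hl z (List.mem_cons_of_mem _ hz)
    have h2 := IdealModSec.isInvertible_of_isEffCartier (isEffCartier_list k hdim l hl')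
    have key : ∀ (I : X.IdealSheafData) (h' : PicF.IsInvertible (ClSub.idealMod I)),
        I = curveIdeal y * (l.map curveIdeal).prod →
          clsMod h' = clsMod (HodgeIndex.inv_curveIdeal k hdim hy) * clsMod h2 := by
      rintro I h' rfl
      exact HodgeIndex.cls_idealMod_mul h' _ _
    rw [key _ hI List.prod_cons, mul_inv, ih hl' h2, List.map_cons, List.prod_cons, cCl,
      dif_pos (HodgeIndex.inv_curveIdeal k hdim hy)]

include k hdim in
theorem cls_eq_list {Z : X.IdealSheafData} (hZ : PicF.IsInvertible (ClSub.idealMod Z)) (l : List X)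
    (hl : ∀ y ∈ l, IsTop 1 y) (he : Z = (l.map curveIdeal).prod) :
    (clsMod hZ)⁻¹ = (l.map fun y => cCl (curveIdeal y)).prod := by
  subst he
  exact cls_list k hdim l hl hZ

include hdim in
/-- Some component of a divisor of arithmetic genus at most zero meets the rest at most once. -/
theorem exists_good_curve {Z : X.IdealSheafData} (hZ : _root_.BlowUp.IsEffCartierIdeal Z)
    (hcurve : ∀ y, IsTop 1 y → y ∈ (Z.support : Set X) → Curv2.euler k X (ClSub.quotMod (curveIdeal y)) = 1)
    (hpos : 1 ≤ Curv2.euler k X (ClSub.quotMod Z)) :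
    ∃ y, IsTop 1 y ∧ y ∈ (Z.support : Set X) ∧
      isect k (clsMod (IdealModSec.isInvertible_of_isEffCartier hZ))⁻¹ (cCl (curveIdeal y)) -
        isect k (cCl (curveIdeal y)) (cCl (curveIdeal y)) ≤ 1 := by
  by_contra hc
  push Not at hc
  obtain ⟨l, hl, he⟩ := exists_list k hdim Z hZ
  have hZi := IdealModSec.isInvertible_of_isEffCartier hZ
  obtain ⟨z, hz⟩ : ∃ z, z = (clsMod hZi)⁻¹ := ⟨_, rfl⟩
  have hzl : z = (l.map fun y => cCl (curveIdeal y)).prod := hz.trans (cls_eq_list k hdim hZi l (fun y hy => (hl y hy).1) he)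
  have hterm : ∀ y ∈ l, 0 ≤ isect k z (cCl (curveIdeal y)) + kdeg k (cCl (curveIdeal y)) := by
    intro y hy
    obtain ⟨h1, h2⟩ := hl y hy
    have h3 := hc y h1 h2
    have h4 := hcurve y h1 h2
    rw [euler_quot_eq k (HodgeIndex.inv_curveIdeal k hdim h1)] at h4
    have hc4 : chiD k (cCl (curveIdeal y)) = 1 := by
      rw [cCl, dif_pos (HodgeIndex.inv_curveIdeal k hdim h1)]; exact h4
    rw [← hz] at h3
    simp only [kdeg, hc4]
    linarith
  have hsum : 0 ≤ isect k z z + kdeg k z := by
    have e1 : isect k z z = (l.map fun y => isect k z (cCl (curveIdeal y))).sum := by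
      conv_lhs => arg 3; rw [hzl]
      rw [isect_prod k hdim, List.map_map]; rfl
    have e2 : kdeg k z = (l.map fun y => kdeg k (cCl (curveIdeal y))).sum := by
      rw [hzl, kdeg_prod k hdim, List.map_map]; rfl
    rw [e1, e2, ← List.sum_map_add]
    refine List.sum_nonneg fun a ha => ?_
    obtain ⟨y, hy, rfl⟩ := List.mem_map.1 ha
    exact hterm y hy
  rw [euler_quot_eq k hZi, ← hz] at hpos
  simp only [kdeg] at hsum
  linarith

end GrothLib.RatCyc12
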