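import Groth.Agent.Lib.RatCyc12.Fundamental

/-!
# The fundamental cycle of a connected configuration
-/

set_option autoImplicit false
set_option backward.isDefEq.respectTransparency false
set_option linter.all false

universe u

open CategoryTheory CategoryTheory.Limits AlgebraicGeometry TopologicalSpace Opposite

noncomputable section

namespace GrothLib.RatCyc12

open GrothLib.Cube (Pic clsMod)
open GrothLib.HodgeIndex (isect deg curveIdeal rep chi cCl)
open GrothLib.Snapper (IsTop DimLT mixed phi)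
open GrothLib.Euler (tF)

variable {X : Scheme.{u}} (k : Type u) [Field k] [IsAlgClosed k] [X.Over (Spec (CommRingCat.of k))]
  [IsProper (X ↘ Spec (CommRingCat.of k))] [IsIntegral X] [Smooth (X ↘ Spec (CommRingCat.of k))]
  (hdim : topologicalKrullDim X = ((2 : ℕ) : WithBot ℕ∞))
  {r : ℕ} (C : Fin r → X.IdealSheafData) (hCi : ∀ i, IsIntegral (C i).subscheme)
  (hCd : ∀ i, topologicalKrullDim ((C i).support : Set X) = 1)

include k hdim hCi hCd in
/-- A curve point inside the configuration is one of the generic points. -/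
theorem exists_index {y : X} (hy : IsTop 1 y) (hys : y ∈ ⋃ i, ((C i).support : Set X)) :
    ∃ i, curveIdeal y = C i := by
  obtain ⟨i, hi⟩ := Set.mem_iUnion.1 hys
  obtain ⟨w, hw, hwC, -⟩ := HodgeIndex.exists_curve_point k hdim (hCi i) (hCd i)
  rw [← hwC, show ((curveIdeal w).support : Set X) = closure {w} from
    Scheme.IdealSheafData.coe_support_vanishingIdeal _] at hi
  exact ⟨i, by rw [← hy.eq_of_specializes (specializes_iff_mem_closure.2 hi) hw.dimLT]; exact hwC⟩

variable {Z₀ : X.IdealSheafData} (hZ₀ : _root_.BlowUp.IsEffCartierIdeal Z₀)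
  (hZ₀s : (Z₀.support : Set X) ⊆ ⋃ i, ((C i).support : Set X))
  (hZ₀C : ∀ i, 0 ≤ Curv2.euler k X (CohB1.tensorMod (ClSub.quotMod (C i)) (ClSub.idealMod Z₀)) -
    Curv2.euler k X (ClSub.quotMod (C i)))

include hdim hCi hCd hZ₀s hZ₀C in
/-- The fundamental cycle is non-positive on its curves. -/
theorem deg_nonneg {y : X} (hy : IsTop 1 y) (hyZ : y ∈ (Z₀.support : Set X)) :
    0 ≤ deg k y (clsMod (IdealModSec.isInvertible_of_isEffCartier hZ₀)) := by
  obtain ⟨i, hi⟩ := exists_index k hdim C hCi hCd hy (hZ₀s hyZ)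
  rw [deg_eq_ccl k hdim hy, hi]
  have h := hZ₀C i
  rw [HodgeIndex.euler_sub_eq_isect k hdim (hCi i) (hCd i) (IdealModSec.isInvertible_of_isEffCartier hZ₀)] at h
  exact_mod_cast h

include hdim hCi hCd hZ₀ hZ₀s hZ₀C in
/-- Minimality gives computation sequences. -/
theorem hasChain_fundamental
    (hmin : ∀ Z : X.IdealSheafData, FGA.IsEffCartier Z → Z ≠ ⊤ → (Z.support : Set X) ⊆ ⋃ i, ((C i).support : Set X) →
      (∀ i, 0 ≤ Curv2.euler k X (CohB1.tensorMod (ClSub.quotMod (C i)) (ClSub.idealMod Z)) -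
        Curv2.euler k X (ClSub.quotMod (C i))) → Z ≤ Z₀) :
    HasChain k Z₀ := by
  haveI := Euler.isNoetherian_of_proper (X := X) k
  intro A K hA hAc hKc hA0 hK0 he
  have hle : Z₀ ≤ A := he.le.trans (ArSurf29.mul_le_left' _ _)
  obtain ⟨i, hi⟩ : ∃ i, Curv2.euler k X (CohB1.tensorMod (ClSub.quotMod (C i)) (ClSub.idealMod A)) -
      Curv2.euler k X (ClSub.quotMod (C i)) < 0 := by
    by_contra hc
    push Not at hc
    have hle' := hmin A hAc hA0 (fun x hx => hZ₀s (Scheme.IdealSheafData.support_antitone hle hx)) hc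
    exact hK0 (NumConn12.eq_top_of_mul_eq hKc hAc ((mul_comm K A).trans (he.symm.trans (le_antisymm hle hle'))))
  rw [HodgeIndex.euler_sub_eq_isect k hdim (hCi i) (hCd i) hA] at hi
  obtain ⟨y, hy, hyC, -⟩ := HodgeIndex.exists_curve_point k hdim (hCi i) (hCd i)
  have hpos : 1 ≤ isect k (clsMod hA)⁻¹ (cCl (curveIdeal y)) := by
    rw [hyC, HodgeIndex.isect_inv_left k hdim.le]
    omega
  refine ⟨y, hy, ?_, hpos⟩
  by_contra hyK
  have hKi := IdealModSec.isInvertible_of_isEffCartier hKc
  have h1 := HodgeIndex.deg_effCartier_nonneg k hdim hKi hy hyK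
  rw [deg_eq_ccl k hdim hy] at h1
  have h1' : 0 ≤ isect k (clsMod hKi)⁻¹ (cCl (curveIdeal y)) := by exact_mod_cast h1
  have h2 := hZ₀C i
  have key : ∀ (I : X.IdealSheafData) (h' : PicF.IsInvertible (ClSub.idealMod I)),
      I = A * K → clsMod h' = clsMod hA * clsMod hKi := by
    rintro I h' rfl
    exact HodgeIndex.cls_idealMod_mul h' _ _
  rw [HodgeIndex.euler_sub_eq_isect k hdim (hCi i) (hCd i) (IdealModSec.isInvertible_of_isEffCartier hZ₀),
    key _ _ he, HodgeIndex.isect_mul_left k hdim.le, ← hyC] at h2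
  rw [HodgeIndex.isect_inv_left k hdim.le] at hpos h1'
  omega

include hdim hCi hCd hZ₀ hZ₀s hZ₀C in
/-- On a connected configuration the fundamental cycle contains every curve. -/
theorem mem_support_fundamental (hC : Function.Injective C) (hZ₀0 : Z₀ ≠ ⊤)
    (hconn : ∀ S : Finset (Fin r), S.Nonempty → Sᶜ.Nonempty →
      ∃ i ∈ S, ∃ j ∈ Sᶜ, FGA.intNum k X 2 ![(ClSub.idealMod (C i)), (ClSub.idealMod (C j))] (Coh.structureModule X) ≠ 0)
    {y : X} (hy : IsTop 1 y) (hys : y ∈ ⋃ i, ((C i).support : Set X)) : y ∈ (Z₀.support : Set X) := by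
  classical
  haveI := Euler.isNoetherian_of_proper (X := X) k
  obtain ⟨H, hH⟩ := Goodman.exists_ample_of_smooth_surface k hdim
  choose w hw hwC hwmem using fun i => HodgeIndex.exists_curve_point k hdim (hCi i) (hCd i)
  let S : Finset (Fin r) := Finset.univ.filter fun i => w i ∈ (Z₀.support : Set X)
  obtain ⟨l, hl, he⟩ := exists_list k hdim Z₀ hZ₀
  have hidx : ∀ z ∈ l, ∃ i, z = w i := fun z hz => by
    obtain ⟨i, hi⟩ := exists_index k hdim C hCi hCd (hl z hz).1 (hZ₀s (hl z hz).2)
    refine ⟨i, ?_⟩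
    have := congrArg (fun I : X.IdealSheafData => (I.support : Set X)) (hi.trans (hwC i).symm)
    exact Inseparable.eq (inseparable_iff_closure_eq.2 (by
      simpa [curveIdeal, Scheme.IdealSheafData.coe_support_vanishingIdeal] using this))
  have hne : S.Nonempty := by
    cases l with
    | nil => exact absurd (he.trans (List.prod_nil.trans Scheme.IdealSheafData.one_eq_top)) hZ₀0
    | cons z l =>
      obtain ⟨i, rfl⟩ := hidx z (List.mem_cons_self ..)
      exact ⟨i, Finset.mem_filter.2 ⟨Finset.mem_univ _, (hl _ (List.mem_cons_self ..)).2⟩⟩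
  obtain ⟨i₁, hi₁⟩ := exists_index k hdim C hCi hCd hy hys
  by_contra hyZ
  have hyw : y = w i₁ := by
    have := congrArg (fun I : X.IdealSheafData => (I.support : Set X)) (hi₁.trans (hwC i₁).symm)
    exact Inseparable.eq (inseparable_iff_closure_eq.2 (by
      simpa [curveIdeal, Scheme.IdealSheafData.coe_support_vanishingIdeal] using this))
  obtain ⟨i, hi, j, hj, hij⟩ := hconn S hne ⟨i₁, Finset.mem_compl.2 fun h => hyZ (by rw [hyw]; exact (Finset.mem_filter.1 h).2)⟩
  have hjZ : w j ∉ (Z₀.support : Set X) := by simpa [S] using hj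
  have hiZ : w i ∈ (Z₀.support : Set X) := by simpa [S] using hi
  rw [HodgeIndex.intNum_curves k hdim (hCi i) (hCd i) (hCi j) (hCd j) hH] at hij
  have hij' : 0 < isect k (cCl (C j)) (cCl (C i)) :=
    lt_of_le_of_ne (HodgeIndex.isect_curves_nonneg k hdim (hCi j) (hCd j) (hCi i) (hCd i)
      (fun e => hjZ (by rwa [hC e] ))) (by rw [HodgeIndex.isect_comm]; exact Ne.symm hij)
  have hZi := IdealModSec.isInvertible_of_isEffCartier hZ₀
  have h2 := hZ₀C j
  rw [HodgeIndex.euler_sub_eq_isect k hdim (hCi j) (hCd j) hZi, HodgeIndex.isect_comm,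
    ← inv_inv (clsMod hZi), HodgeIndex.isect_inv_right k hdim.le,
    cls_eq_list k hdim hZi l (fun z hz => (hl z hz).1) he, isect_prod k hdim, List.map_map] at h2
  -- one of the terms is positive
  have hnn : ∀ z ∈ l, 0 ≤ isect k (cCl (C j)) (cCl (curveIdeal z)) := fun z hz => by
    obtain ⟨m, rfl⟩ := hidx z hz
    rw [hwC m]
    exact HodgeIndex.isect_curves_nonneg k hdim (hCi j) (hCd j) (hCi m) (hCd m)
      (fun e => hjZ (by rw [hC e]; exact (hl _ hz).2))
  have hil : w i ∈ l := by
    obtain ⟨u, hu, hiu⟩ : ∃ u ∈ l, w i ∈ closure ({u} : Set X) := by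
      have hmem : ∀ l' : List X, w i ∈ (((l'.map curveIdeal).prod).support : Set X) →
          ∃ u ∈ l', w i ∈ closure ({u} : Set X) := by
        intro l'
        induction l' with
        | nil =>
          intro h
          rw [List.map_nil, List.prod_nil, Scheme.IdealSheafData.one_eq_top, Scheme.IdealSheafData.support_top] at h
          exact False.elim h
        | cons v l' ih =>
          intro h
          rw [List.map_cons, List.prod_cons, Scheme.IdealSheafData.support_mul, Closeds.coe_sup] at h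
          rcases h with h | h
          · refine ⟨v, List.mem_cons_self .., ?_⟩
            rwa [show ((curveIdeal v).support : Set X) = closure {v} from
              Scheme.IdealSheafData.coe_support_vanishingIdeal _] at h
          · obtain ⟨u, hu, hu'⟩ := ih h
            exact ⟨u, List.mem_cons_of_mem _ hu, hu'⟩
      exact hmem l (he ▸ hiZ)
    rwa [← (hw i).eq_of_specializes (specializes_iff_mem_closure.2 hiu) (hl u hu).1.dimLT]
  have hpos : 0 < (l.map (isect k (cCl (C j)) ∘ fun y => cCl (curveIdeal y))).sum := by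
    refine lt_of_lt_of_le hij' (List.single_le_sum (fun a ha => ?_) _ (List.mem_map.2 ⟨w i, hil, ?_⟩))
    · obtain ⟨z, hz, rfl⟩ := List.mem_map.1 ha
      exact hnn z hz
    · show isect k (cCl (C j)) (cCl (curveIdeal (w i))) = _
      rw [hwC i]
  omega

end GrothLib.RatCyc12
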