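import Groth.Agent.Lib.RatCyc12.Fundamental
import Groth.Agent.Lib.FibreDiv12.Zariski
import Groth.Agent.Lib.Adj27.Variety
import Groth.Agent.Lib.HodgeIndex.NegCurves

/-!
# The Euler characteristic of a connected union of curves
-/

set_option autoImplicit false
set_option backward.isDefEq.respectTransparency false
set_option linter.all false
set_option maxHeartbeats 1000000

universe u

open CategoryTheory CategoryTheory.Limits AlgebraicGeometry TopologicalSpace Opposite

noncomputable section

namespace GrothLib.RatCyc12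

open GrothLib.Cube (Pic clsMod)
open GrothLib.HodgeIndex (isect curveIdeal chi cCl)
open GrothLib.Snapper (IsTop)

variable {X : Scheme.{u}}

/-- An effective divisor not containing a curve meets it in the product. -/
theorem inf_le_mul_curve {A : X.IdealSheafData} (hA : _root_.BlowUp.IsEffCartierIdeal A) {y : X}
    (hy : y ∉ (A.support : Set X)) : A ⊓ curveIdeal y ≤ A * curveIdeal y := by
  choose U hxU a ha hI using hA
  refine Scheme.IdealSheafData.le_of_iSup_eq_top U (eq_top_iff.2 fun x _ => Opens.mem_iSup.2 ⟨x, hxU x⟩) fun x => ?_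
  have hC : (curveIdeal y).ideal (U x) =
      PrimeSpectrum.vanishingIdeal ((U x).2.fromSpec ⁻¹' closure {y}) :=
    Scheme.IdealSheafData.vanishingIdeal_ideal _ (U x)
  simp only [Scheme.IdealSheafData.ideal_inf, Scheme.IdealSheafData.ideal_mul, Pi.inf_apply, Pi.mul_apply]
  by_cases hyU : y ∈ (U x).1
  · obtain ⟨p, rfl⟩ : y ∈ Set.range (U x).2.fromSpec := (U x).2.range_fromSpec.ge hyU
    have hp : (curveIdeal ((U x).2.fromSpec p)).ideal (U x) = p.asIdeal := by
      rw [hC, (U x).2.fromSpec.isOpenEmbedding.isOpenMap.preimage_closure_eq_closure_preimage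
        (U x).2.fromSpec.continuous, ← Set.image_singleton, Set.preimage_image_eq _
        (U x).2.fromSpec.isOpenEmbedding.injective, PrimeSpectrum.vanishingIdeal_closure,
        PrimeSpectrum.vanishingIdeal_singleton]
    have hap : a x ∉ p.asIdeal := fun h => hy (by
      have h1 : (U x).2.fromSpec p ∈ (U x).2.fromSpec '' PrimeSpectrum.zeroLocus ((A.ideal (U x) : Set Γ(X, (U x).1))) :=
        ⟨p, by
          rw [PrimeSpectrum.mem_zeroLocus, SetLike.coe_subset_coe, hI, Ideal.span_le, Set.singleton_subset_iff]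
          exact h, rfl⟩
      rw [(U x).2.fromSpec_image_zeroLocus, ← Scheme.IdealSheafData.coe_support_inter] at h1
      exact h1.1)
    rintro z ⟨hzA, hzC⟩
    rw [SetLike.mem_coe, hI, Ideal.mem_span_singleton'] at hzA
    obtain ⟨c, rfl⟩ := hzA
    rw [SetLike.mem_coe, hp] at hzC
    rw [mul_comm c, hp, hI]
    exact Ideal.mul_mem_mul (Ideal.mem_span_singleton_self _) ((p.isPrime.mem_or_mem hzC).resolve_right hap)
  · have hemp : (U x).2.fromSpec ⁻¹' closure {y} = ∅ := Set.eq_empty_iff_forall_notMem.2 fun q hq =>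
      hyU ((specializes_iff_mem_closure.2 hq).mem_open (U x).1.2 ((U x).2.range_fromSpec.le ⟨q, rfl⟩))
    rw [hC, hemp, PrimeSpectrum.vanishingIdeal_empty, Ideal.mul_top]
    exact inf_le_left

section Comb

variable {n : ℕ} (I : Fin n → Fin n → ℤ)

/-- The sum over ordered pairs in a set. -/
def pairSum (s : Finset (Fin n)) : ℤ := ∑ i ∈ s, ∑ j ∈ s, if i < j then I i j else 0

theorem pairSum_insert (hs : ∀ i j, I i j = I j i) {s : Finset (Fin n)} {a : Fin n} (ha : a ∉ s) :
    pairSum I (insert a s) = pairSum I s + ∑ j ∈ s, I a j := by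
  simp only [pairSum, Finset.sum_insert ha, lt_irrefl, if_false, zero_add, Finset.sum_add_distrib]
  rw [← add_assoc, add_comm _ (∑ i ∈ s, ∑ j ∈ s, _), ← Finset.sum_add_distrib]
  congr 1
  refine Finset.sum_congr rfl fun j hj => ?_
  rcases lt_trichotomy a j with h | h | h
  · rw [if_pos h, if_neg h.not_gt, add_zero]
  · exact absurd (h ▸ hj) ha
  · rw [if_neg h.not_gt, if_pos h, zero_add, hs]

end Comb

variable (k : Type u) [Field k] [IsAlgClosed k] [X.Over (Spec (CommRingCat.of k))]
  [IsProper (X ↘ Spec (CommRingCat.of k))] [IsIntegral X] [Smooth (X ↘ Spec (CommRingCat.of k))]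
  (hdim : topologicalKrullDim X = ((2 : ℕ) : WithBot ℕ∞))

include hdim in
theorem euler_union_curves (n : ℕ) (y : Fin n → X) (hy : ∀ i, IsTop 1 (y i)) (hinj : Function.Injective y)
    (hconn : _root_.IsConnected ((⨅ i, curveIdeal (y i)).support : Set X)) :
    Curv2.euler k X (ClSub.quotMod (⨅ i, curveIdeal (y i))) ≤ 1 ∧
      (Curv2.euler k X (ClSub.quotMod (⨅ i, curveIdeal (y i))) = 1 →
        (∀ i, Curv2.euler k X (ClSub.quotMod (curveIdeal (y i))) = 1) ∧
          (∑ i, ∑ j, if i < j then isect k (cCl (curveIdeal (y i))) (cCl (curveIdeal (y j))) else 0) = (n : ℤ) - 1) := by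
  classical
  let C := fun i => curveIdeal (y i)
  let I := fun i j => isect k (cCl (C i)) (cCl (C j))
  let Q := fun s : Finset (Fin n) => ∏ i ∈ s, C i
  have hsupp : ∀ i, ((C i).support : Set X) = closure {y i} := fun i => Scheme.IdealSheafData.coe_support_vanishingIdeal _
  have hCi : ∀ i, PicF.IsInvertible (ClSub.idealMod (C i)) := fun i => HodgeIndex.inv_curveIdeal k hdim (hy i)
  have hQ : ∀ s : Finset (Fin n), _root_.BlowUp.IsEffCartierIdeal (Q s) ∧
      ((Q s).support : Set X) = ⋃ i ∈ s, ((C i).support : Set X) ∧ Q s = s.inf C ∧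
      ∀ h : PicF.IsInvertible (ClSub.idealMod (Q s)),
        chiD k (clsMod h)⁻¹ = ∑ i ∈ s, chiD k (cCl (C i)) - pairSum I s ∧
          ∀ x : Pic X, isect k x (clsMod h)⁻¹ = ∑ i ∈ s, isect k x (cCl (C i)) := by
    intro s
    induction s using Finset.induction with
    | empty =>
      have e : Q ∅ = ⊤ := Finset.prod_empty.trans Scheme.IdealSheafData.one_eq_top
      refine ⟨e ▸ BlowUp.isEffCartierIdeal_top, by rw [e]; simp, by rw [e, Finset.inf_empty], fun h => ?_⟩
      have key : ∀ (J : X.IdealSheafData) (h : PicF.IsInvertible (ClSub.idealMod J)), J = ⊤ → clsMod h = 1 := by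
        rintro J h rfl
        exact HodgeIndex.cls_idealMod_top h
      rw [key _ h e, inv_one]
      refine ⟨by simp [chiD, pairSum], fun x => ?_⟩
      rw [Finset.sum_empty, HodgeIndex.isect_comm, HodgeIndex.isect_one_left k hdim.le]
    | @insert a s ha ih =>
      obtain ⟨hc, hsup, hinf, hcls⟩ := ih
      have hC := HodgeIndex.eff_curveIdeal k hdim (hy a)
      have hc' := BlowUp.isEffCartierIdeal_mul hc hC
      have e : Q (insert a s) = Q s * C a := (Finset.prod_insert ha).trans (mul_comm _ _)
      have hya : y a ∉ ((Q s).support : Set X) := by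
        rw [hsup]
        simp only [Set.mem_iUnion, not_exists, hsupp]
        intro i hi h
        exact ha ((hinj ((hy a).eq_of_specializes (specializes_iff_mem_closure.2 h) (hy i).dimLT)).symm ▸ hi)
      refine ⟨e ▸ hc', by rw [e, Scheme.IdealSheafData.support_mul]; simp [hsup, Set.union_comm], ?_, fun h => ?_⟩
      · rw [e, Finset.inf_insert, ← hinf, inf_comm]
        refine le_antisymm (le_inf ?_ (by rw [mul_comm]; exact ArSurf29.mul_le_left' _ _)) (inf_le_mul_curve hc hya)
        exact ArSurf29.mul_le_left' _ _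
      · have hQi := IdealModSec.isInvertible_of_isEffCartier hc
        have key : ∀ (J : X.IdealSheafData) (h' : PicF.IsInvertible (ClSub.idealMod J)),
            J = Q s * C a → (clsMod h')⁻¹ = (clsMod hQi)⁻¹ * cCl (C a) := by
          rintro J h' rfl
          rw [HodgeIndex.cls_idealMod_mul h' hQi (hCi a), mul_inv, cCl, dif_pos (hCi a)]
        obtain ⟨h1, h2⟩ := hcls hQi
        rw [key _ h e]
        refine ⟨?_, fun x => ?_⟩
        · rw [chiD_mul k hdim, h1, HodgeIndex.isect_comm, h2, Finset.sum_insert ha,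
            pairSum_insert I (fun i j => HodgeIndex.isect_comm k _ _) ha]
          ring
        · rw [HodgeIndex.isect_mul_right k hdim.le, h2, Finset.sum_insert ha]
          ring
  obtain ⟨hc, hsup, hinf, hcls⟩ := hQ Finset.univ
  have hQe : (⨅ i, curveIdeal (y i)) = Q Finset.univ := hinf.symm ▸ (Finset.inf_univ_eq_iInf C).symm
  have hχ : ∀ i, chiD k (cCl (C i)) = Curv2.euler k X (ClSub.quotMod (C i)) := fun i => by
    rw [euler_quot_eq k (hCi i), cCl, dif_pos (hCi i)]
  have hle : ∀ i, chiD k (cCl (C i)) ≤ 1 := fun i => chiD_curve_le_one k hdim (hy i)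
  rw [hQe, euler_quot_eq k (IdealModSec.isInvertible_of_isEffCartier hc), (hcls _).1]
  rw [hQe, hsup] at hconn
  have hn : 0 < n := by
    obtain ⟨x, hx⟩ := hconn.nonempty
    obtain ⟨i, -⟩ := Set.mem_iUnion.1 hx
    exact i.pos
  have hgrow : ∀ m : ℕ, 1 ≤ m → m ≤ n → ∃ s : Finset (Fin n), s.card = m ∧ (m : ℤ) - 1 ≤ pairSum I s := by
    intro m hm
    induction m, hm using Nat.le_induction with
    | base => exact fun _ => ⟨{⟨0, hn⟩}, Finset.card_singleton _, by simp [pairSum]⟩
    | succ m hm ih =>
      intro hmn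
      obtain ⟨s, hs, hT⟩ := ih (by omega)
      obtain ⟨i, hi, j, hj, x, hxi, hxj⟩ : ∃ i ∈ s, ∃ j ∉ s, ∃ x, y i ⤳ x ∧ y j ⤳ x := by
        by_contra hno
        push Not at hno
        obtain ⟨i₀, hi₀⟩ : s.Nonempty := Finset.card_pos.1 (by omega)
        obtain ⟨j₀, hj₀⟩ : ∃ j, j ∉ s := by
          by_contra h
          push Not at h
          rw [show s = Finset.univ from Finset.eq_univ_iff_forall.2 h, Finset.card_univ, Fintype.card_fin] at hs
          omega
        obtain ⟨x, -, hx1, hx2⟩ := isPreconnected_closed_iff.1 hconn.isPreconnected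
          (⋃ i ∈ s, ((C i).support : Set X)) (⋃ j ∈ sᶜ, ((C j).support : Set X))
          (isClosed_biUnion_finset fun i _ => (C i).support.isClosed)
          (isClosed_biUnion_finset fun i _ => (C i).support.isClosed)
          (fun x hx => by
            simp only [Set.mem_iUnion, Set.mem_union, Finset.mem_compl] at hx ⊢
            obtain ⟨i, -, hi⟩ := hx
            by_cases h : i ∈ s
            · exact Or.inl ⟨i, h, hi⟩
            · exact Or.inr ⟨i, h, hi⟩)
          ⟨y i₀, Set.mem_biUnion (Finset.mem_univ i₀) ((hsupp i₀).ge (subset_closure rfl)),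
            Set.mem_biUnion hi₀ ((hsupp i₀).ge (subset_closure rfl))⟩
          ⟨y j₀, Set.mem_biUnion (Finset.mem_univ j₀) ((hsupp j₀).ge (subset_closure rfl)),
            Set.mem_biUnion (Finset.mem_compl.2 hj₀) ((hsupp j₀).ge (subset_closure rfl))⟩
        simp only [Set.mem_iUnion, Finset.mem_compl, hsupp] at hx1 hx2
        obtain ⟨i, hi, hxi⟩ := hx1
        obtain ⟨j, hj, hxj⟩ := hx2
        exact hno i hi j hj x (specializes_iff_mem_closure.2 hxi) (specializes_iff_mem_closure.2 hxj)
      refine ⟨insert j s, by rw [Finset.card_insert_of_notMem hj, hs], ?_⟩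
      rw [pairSum_insert I (fun i j => HodgeIndex.isect_comm k _ _) hj]
      have hne : ∀ l ∈ s, y j ≠ y l := fun l hl h => hj (hinj h ▸ hl)
      have h1 : 1 ≤ I j i := FibreDiv12.isect_ccl_pos k hdim (hy j) (hy i) (hne i hi) hxj hxi
      have h2 : 1 ≤ ∑ l ∈ s, I j l := h1.trans (Finset.single_le_sum
        (fun l hl => FibreDiv12.isect_ccl_nonneg k hdim (hy j) (hy l) (hne l hl)) hi)
      push_cast
      linarith
  obtain ⟨s, hs, hT⟩ := hgrow n hn le_rfl
  rw [show s = Finset.univ from Finset.eq_univ_of_card _ (by rw [hs, Fintype.card_fin])] at hT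
  have hsum : ∑ i, chiD k (cCl (C i)) ≤ n := (Finset.sum_le_sum fun i _ => hle i).trans (by simp)
  refine ⟨by linarith, fun h1 => ⟨fun i => ?_, ?_⟩⟩
  · rw [← hχ]
    refine le_antisymm (hle i) ?_
    by_contra hlt
    push Not at hlt
    have : ∑ i, chiD k (cCl (C i)) < ∑ _i : Fin n, (1 : ℤ) :=
      Finset.sum_lt_sum (fun i _ => hle i) ⟨i, Finset.mem_univ i, hlt⟩
    simp only [Finset.sum_const, Finset.card_univ, Fintype.card_fin, nsmul_eq_mul, mul_one] at this
    linarith
  · show pairSum I Finset.univ = _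
    linarith

end GrothLib.RatCyc12
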