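import Groth.Agent.Lib.RatCyc12.Chi
import Groth.Agent.Lib.CurveMult.NefGenusZero
import Groth.Agent.Lib.ConnH0.Basic

/-!
# Divisors all of whose parts have arithmetic genus at most zero
-/

set_option autoImplicit false
set_option backward.isDefEq.respectTransparency false
set_option linter.all false

universe u

open CategoryTheory CategoryTheory.Limits AlgebraicGeometry TopologicalSpace Opposite

noncomputable section

namespace GrothLib.RatCyc12

open GrothLib.Cube (Pic clsMod)
open GrothLib.HodgeIndex (isect deg curveIdeal rep chi cCl)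
open GrothLib.Snapper (IsTop DimLT mixed phi)
open GrothLib.Euler (tF)

variable {X : Scheme.{u}} (k : Type u) [Field k] [IsAlgClosed k] [X.Over (Spec (CommRingCat.of k))]
  [IsProper (X ↘ Spec (CommRingCat.of k))] [IsIntegral X] [Smooth (X ↘ Spec (CommRingCat.of k))]
  (hdim : topologicalKrullDim X = ((2 : ℕ) : WithBot ℕ∞))

omit [IsAlgClosed k] [Smooth (X ↘ Spec (CommRingCat.of k))] in
include k hdim in
theorem dim_effCartier {Z : X.IdealSheafData} (hZ : PicF.IsInvertible (ClSub.idealMod Z)) :
    topologicalKrullDim Z.subscheme ≤ 1 := by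
  haveI := Euler.isNoetherian_of_proper (X := X) k
  have hd : DimLT (Z.support : Set X) (1 + 1) :=
    (Snapper.dimLT_of_notMem (Kleiman.isTop_genericPoint hdim).dimLT
      (T := closure {genericPoint X} ∩ (Z.support : Set X)) Set.inter_subset_left
      fun h => HodgeIndex.genericPoint_notMem_support k hdim hZ h.2).mono fun x hx =>
        ⟨by rw [show closure ({genericPoint X} : Set X) = Set.univ from (genericPoint_spec X).def]; trivial, hx⟩
  have h := Snapper.dim_le_of_dimLT Z.support.isClosed hd
  rw [IsHomeomorph.topologicalKrullDim_eq _ Z.subschemeι.isClosedEmbedding.isEmbedding.toHomeomorph.isHomeomorph,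
    Z.range_subschemeι]
  exact_mod_cast h

omit [IsAlgClosed k] [Smooth (X ↘ Spec (CommRingCat.of k))] [IsIntegral X] in
/-- The Euler characteristic and cohomology of `O_Z`, computed on `Z`. -/
theorem euler_quot_sub (Z : X.IdealSheafData) (hd : topologicalKrullDim Z.subscheme ≤ 1) :
    Curv2.euler k X (ClSub.quotMod Z) = (Module.finrank k (Coh.HH X (ClSub.quotMod Z) 0) : ℤ) -
      Module.finrank k (Coh.HH X (ClSub.quotMod Z) 1) := by
  letI : Z.subscheme.Over (Spec (CommRingCat.of k)) := ⟨Z.subschemeι ≫ X ↘ Spec (CommRingCat.of k)⟩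
  haveI : IsProper (Z.subscheme ↘ Spec (CommRingCat.of k)) :=
    inferInstanceAs (IsProper (Z.subschemeι ≫ X ↘ Spec (CommRingCat.of k)))
  haveI := Cohom.isQuasicoherent_structureModule Z.subscheme
  obtain ⟨e0⟩ := Snapper.nonempty_HH_linearEquiv_pushforward (A := k) Z.subschemeι rfl (Coh.structureModule Z.subscheme) 0
  obtain ⟨e1⟩ := Snapper.nonempty_HH_linearEquiv_pushforward (A := k) Z.subschemeι rfl (Coh.structureModule Z.subscheme) 1
  rw [Snapper.euler_quotMod k Z, Euler.euler_eq_sub k hd]
  show _ = (Module.finrank k (Coh.HH X ((Scheme.Modules.pushforward Z.subschemeι).obj (Coh.structureModule Z.subscheme)) 0) : ℤ) -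
    Module.finrank k (Coh.HH X ((Scheme.Modules.pushforward Z.subschemeι).obj (Coh.structureModule Z.subscheme)) 1)
  rw [← e0.finrank_eq, ← e1.finrank_eq]

omit [IsAlgClosed k] [Smooth (X ↘ Spec (CommRingCat.of k))] in
include hdim in
/-- Vanishing first cohomology gives arithmetic genus at most zero. -/
theorem one_le_euler {Z : X.IdealSheafData} (hZ : PicF.IsInvertible (ClSub.idealMod Z)) (hZ0 : Z ≠ ⊤)
    (h1 : Subsingleton (Coh.HH X (ClSub.quotMod Z) 1)) : 1 ≤ Curv2.euler k X (ClSub.quotMod Z) := by
  haveI := Euler.isNoetherian_of_proper (X := X) k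
  rw [euler_quot_sub k Z (dim_effCartier k hdim hZ), Module.finrank_zero_of_subsingleton (M := Coh.HH X (ClSub.quotMod Z) 1)]
  obtain ⟨z⟩ : Nonempty Z.subscheme := by
    by_contra h
    rw [not_nonempty_iff] at h
    refine hZ0 ((Scheme.IdealSheafData.support_eq_bot_iff _).1 (SetLike.ext' ?_))
    rw [← Scheme.IdealSheafData.range_subschemeι, Set.range_eq_empty]
    rfl
  haveI := ProjCoh.moduleFinite_HH k (ClSub.quotMod Z) (QCoh.pushUnit_isCoh Z.subschemeι) 0
  haveI : Nontrivial Γ(Z.subscheme, ⊤) := (Z.subscheme.presheaf.germ ⊤ z trivial).hom.domain_nontrivial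
  haveI : Nontrivial Γ(ClSub.quotMod Z, ⊤) := ‹Nontrivial Γ(Z.subscheme, ⊤)›
  haveI : Nontrivial (Coh.HH X (ClSub.quotMod Z) 0) := (ProjCoh.H0top _).toEquiv.nontrivial
  have := Module.finrank_pos (R := k) (M := Coh.HH X (ClSub.quotMod Z) 0)
  omega

include hdim in
/-- A curve of arithmetic genus at most zero. -/
theorem euler_curve_eq_one {y : X} (hy : IsTop 1 y) (h : 1 ≤ Curv2.euler k X (ClSub.quotMod (curveIdeal y))) :
    Curv2.euler k X (ClSub.quotMod (curveIdeal y)) = 1 ∧ Subsingleton (Coh.HH X (ClSub.quotMod (curveIdeal y)) 1) := by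
  haveI := Euler.isNoetherian_of_proper (X := X) k
  haveI := Euler.finiteDimensional_HH k (QCoh.pushUnit_isCoh (curveIdeal y).subschemeι) 1
  have e := euler_quot_sub k (curveIdeal y) (NumConn12.dim_pt hy)
  rw [SurfRR28.finrank_H0_quotMod k (curveIdeal y) (Snapper.isIntegral_pt y)] at e
  have h0 : Module.finrank k (Coh.HH X (ClSub.quotMod (curveIdeal y)) 1) = 0 := by omega
  exact ⟨by omega, Module.finrank_zero_iff.1 h0⟩

include hdim in
/-- Degree at least `-1` on a rational curve. -/
theorem subsingleton_H1_twist {y : X} (hy : IsTop 1 y) (h1 : Curv2.euler k X (ClSub.quotMod (curveIdeal y)) = 1)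
    {L : X.Modules} (hL : PicF.IsInvertible L) (hd : -1 ≤ deg k y (clsMod hL)) :
    Subsingleton (Coh.HH X ((tF L).obj (ClSub.quotMod (curveIdeal y))) 1) := by
  haveI := Euler.isNoetherian_of_proper (X := X) k
  haveI : IsIntegral (curveIdeal y).subscheme := Snapper.isIntegral_pt y
  letI : (curveIdeal y).subscheme.Over (Spec (CommRingCat.of k)) := ⟨(curveIdeal y).subschemeι ≫ X ↘ Spec (CommRingCat.of k)⟩
  haveI : IsProper ((curveIdeal y).subscheme ↘ Spec (CommRingCat.of k)) :=
    inferInstanceAs (IsProper ((curveIdeal y).subschemeι ≫ X ↘ Spec (CommRingCat.of k)))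
  let j := (curveIdeal y).subschemeι
  have hdC := NumConn12.dim_pt (X := X) hy
  haveI := Cohom.isQuasicoherent_structureModule (curveIdeal y).subscheme
  have hχ : Curv2.euler k (curveIdeal y).subscheme (Coh.structureModule _) = 1 := by
    rw [← Snapper.euler_quotMod k (curveIdeal y)]; exact h1
  have hO1 : Subsingleton (Coh.HH (curveIdeal y).subscheme (Coh.structureModule _) 1) := by
    haveI := Euler.finiteDimensional_HH k (HomSh.isCoh_structureModule (curveIdeal y).subscheme) 1
    have e := Euler.euler_eq_sub k hdC (Coh.structureModule (curveIdeal y).subscheme)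
    rw [hχ, ConnH0.finrank_H0_eq_one k] at e
    exact Module.finrank_zero_iff.1 (by omega : Module.finrank k (Coh.HH (curveIdeal y).subscheme (Coh.structureModule _) 1) = 0)
  have hLC := Ample.isInvertible_pullback j hL
  have hdeg : ((Curv2.deg k (curveIdeal y).subscheme ((Scheme.Modules.pullback j).obj L) 1 : ℤ) : ℚ) = deg k y (clsMod hL) :=
    NumConn12.deg_pullback_pt k hdim hy hL
  have hdeg' : -1 ≤ Curv2.deg k (curveIdeal y).subscheme ((Scheme.Modules.pullback j).obj L) 1 := by
    rw [← hdeg] at hd
    exact_mod_cast hd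
  have hH1 : Subsingleton (Coh.HH (curveIdeal y).subscheme ((Scheme.Modules.pullback j).obj L) 1) := by
    rcases le_or_gt 0 (Curv2.deg k (curveIdeal y).subscheme ((Scheme.Modules.pullback j).obj L) 1) with h0 | h0
    · exact (CurveMult.nef_of_genus_zero_integral k hdC hO1 hLC h0).1
    · haveI hs := ArSurf29.subsingleton_of_deg_neg k hdC hLC h0
      haveI : Subsingleton (Coh.HH (curveIdeal y).subscheme ((Scheme.Modules.pullback j).obj L) 0) :=
        (ProjCoh.H0top _).injective.subsingleton
      haveI := (Euler.isCoh_of_isInvertible hLC).1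
      haveI := Euler.finiteDimensional_HH k (Euler.isCoh_of_isInvertible hLC) 1
      have e := Euler.euler_eq_sub k hdC ((Scheme.Modules.pullback j).obj L)
      rw [Module.finrank_zero_of_subsingleton (M := Coh.HH (curveIdeal y).subscheme ((Scheme.Modules.pullback j).obj L) 0)] at e
      have e2 : Curv2.deg k (curveIdeal y).subscheme ((Scheme.Modules.pullback j).obj L) 1 =
          Curv2.euler k (curveIdeal y).subscheme ((Scheme.Modules.pullback j).obj L) - 1 := by
        rw [Curv2.deg, hχ]; simp
      exact Module.finrank_zero_iff.1 (by omega : Module.finrank k (Coh.HH (curveIdeal y).subscheme ((Scheme.Modules.pullback j).obj L) 1) = 0)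
  obtain ⟨q⟩ := CMReg.nonempty_tensorMod_push j L (Euler.isFinLocFree_of_isInvertible hL)
  let q' : (tF L).obj (ClSub.quotMod (curveIdeal y)) ≅
    (Scheme.Modules.pushforward j).obj ((Scheme.Modules.pullback j).obj L) := q
  haveI := (Euler.isCoh_of_isInvertible hLC).1
  obtain ⟨e⟩ := Cohom.nonempty_HH_equiv_pushforward j ((Scheme.Modules.pullback j).obj L) 1
  haveI := hH1
  haveI : Subsingleton (Coh.HH X ((Scheme.Modules.pushforward j).obj ((Scheme.Modules.pullback j).obj L)) 1) :=
    e.symm.injective.subsingleton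
  exact (Euler.hhEquiv (A := k) q' 1).injective.subsingleton

include hdim in
/-- If every part has arithmetic genus at most zero, the first cohomology vanishes. -/
theorem subsingleton_H1 (Z : X.IdealSheafData) :
    _root_.BlowUp.IsEffCartierIdeal Z →
      (∀ A J : X.IdealSheafData, _root_.BlowUp.IsEffCartierIdeal A → _root_.BlowUp.IsEffCartierIdeal J → A ≠ ⊤ →
        Z = A * J → 1 ≤ Curv2.euler k X (ClSub.quotMod A)) →
      Subsingleton (Coh.HH X (ClSub.quotMod Z) 1) := by
  haveI := Euler.isNoetherian_of_proper (X := X) k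
  haveI := CurveMult.wellFoundedGT_idealSheafData (X := X)
  induction Z using WellFoundedGT.induction with
  | ind Z ih =>
    intro hZ hsub
    by_cases h0 : Z = ⊤
    · have hsupp : CohB1.support (ClSub.quotMod Z) ⊆ ∅ := fun x hx => by
        have := QCoh.support_pushforward_subset_range Z.subschemeι _ hx
        rw [Z.range_subschemeι, h0, Scheme.IdealSheafData.support_top] at this
        exact this
      exact Euler.subsingleton_HH_of_finite_support _ (Set.finite_empty.subset hsupp)
        (fun x hx => absurd (hsupp hx) (Set.notMem_empty x)) 1 le_rfl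
    have hcurve : ∀ y, IsTop 1 y → y ∈ (Z.support : Set X) →
        Curv2.euler k X (ClSub.quotMod (curveIdeal y)) = 1 ∧ Subsingleton (Coh.HH X (ClSub.quotMod (curveIdeal y)) 1) := by
      intro y hy hyZ
      have hC := HodgeIndex.eff_curveIdeal k hdim hy
      obtain ⟨J, hJ, he⟩ := NumConn12.exists_quotient hZ hC (Scheme.IdealSheafData.le_support_iff_le_vanishingIdeal.1
        (closure_minimal (Set.singleton_subset_iff.2 hyZ) Z.support.isClosed))
      refine euler_curve_eq_one k hdim hy (hsub _ J hC hJ (fun e => ?_) he)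
      have h : y ∈ ((curveIdeal y).support : Set X) := subset_closure rfl
      rw [e, Scheme.IdealSheafData.support_top] at h
      exact h
    have hpos : 1 ≤ Curv2.euler k X (ClSub.quotMod Z) :=
      hsub Z ⊤ hZ BlowUp.isEffCartierIdeal_top h0 (by rw [← Scheme.IdealSheafData.one_eq_top, mul_one])
    obtain ⟨y, hy, hyZ, hgood⟩ := exists_good_curve k hdim hZ (fun y hy hyZ => (hcurve y hy hyZ).1) hpos
    have hC := HodgeIndex.eff_curveIdeal k hdim hy
    have hCi := HodgeIndex.inv_curveIdeal k hdim hy
    obtain ⟨A, hA, he⟩ := NumConn12.exists_quotient hZ hC (Scheme.IdealSheafData.le_support_iff_le_vanishingIdeal.1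
        (closure_minimal (Set.singleton_subset_iff.2 hyZ) Z.support.isClosed))
    have he' : Z = A * curveIdeal y := he.trans (mul_comm _ _)
    have hAi := IdealModSec.isInvertible_of_isEffCartier hA
    have hlt : Z < A := lt_of_le_of_ne (he'.le.trans (ArSurf29.mul_le_left' _ _)) fun e => by
      have hC0 := NumConn12.eq_top_of_mul_eq hC hA (he.symm.trans e)
      have h : y ∈ ((curveIdeal y).support : Set X) := subset_closure rfl
      rw [hC0, Scheme.IdealSheafData.support_top] at h
      exact h
    have hIH : Subsingleton (Coh.HH X (ClSub.quotMod A) 1) := ih A hlt hA fun A' J hA' hJ hA'0 e =>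
      hsub A' (J * curveIdeal y) hA' (BlowUp.isEffCartierIdeal_mul hJ hC) hA'0 (by rw [he', e, mul_assoc])
    -- the degree of the kernel on the curve
    obtain ⟨a, ha⟩ : ∃ a, a = (clsMod hAi)⁻¹ := ⟨_, rfl⟩
    have hz : (clsMod (IdealModSec.isInvertible_of_isEffCartier hZ))⁻¹ = a * cCl (curveIdeal y) := by
      have key : ∀ (I : X.IdealSheafData) (h' : PicF.IsInvertible (ClSub.idealMod I)),
          I = A * curveIdeal y → clsMod h' = clsMod hAi * clsMod hCi := by
        rintro I h' rfl
        exact HodgeIndex.cls_idealMod_mul h' _ _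
      rw [key _ _ he', mul_inv, ha, cCl, dif_pos hCi]
    rw [hz, HodgeIndex.isect_mul_left k hdim.le, add_sub_cancel_right] at hgood
    have hdeg : -1 ≤ deg k y (clsMod hAi) := by
      have e1 : clsMod hAi = a⁻¹ := by rw [ha, inv_inv]
      rw [e1, HodgeIndex.deg_eq_isect k hdim hy, HodgeIndex.isect_inv_left k hdim.le]
      rw [cCl, dif_pos hCi] at hgood
      push_cast
      have : ((isect k a (clsMod (HodgeIndex.inv_curveIdeal k hdim hy))⁻¹ : ℤ) : ℚ) ≤ 1 := by exact_mod_cast hgood
      linarith
    have hker := subsingleton_H1_twist k hdim hy (hcurve y hy hyZ).1 hAi hdeg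
    obtain ⟨S, hS, ⟨a₁⟩, ⟨a₂⟩, ⟨a₃⟩⟩ := ArSurf29.exists_shortExact_mul A (curveIdeal y) hAi hCi
    let c : S.X₁ ≅ (tF (ClSub.idealMod A)).obj (ClSub.quotMod (curveIdeal y)) :=
      a₁ ≪≫ GrTilde.tensorModComm _ _
    haveI h1 : Subsingleton (Coh.HH X S.X₁ 1) := (Euler.hhEquiv (A := k) c 1).injective.subsingleton
    haveI h3 : Subsingleton (Coh.HH X S.X₃ 1) := (Euler.hhEquiv (A := k) a₃ 1).injective.subsingleton
    haveI h2 : Subsingleton (Coh.HH X S.X₂ 1) := subsingleton_of_forall_eq 0 fun x => by
      obtain ⟨w, rfl⟩ := (Cohom.exact₂ (A := k) hS 1 x).1 (Subsingleton.elim _ _)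
      rw [Subsingleton.elim w 0, map_zero]
    rw [he']
    exact (Euler.hhEquiv (A := k) a₂ 1).symm.injective.subsingleton

end GrothLib.RatCyc12
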